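import Groth.Prelude.Def_LogNCD2
import Groth.Agent.QC70.Stalk
import Groth.Agent.H98GP.Basic

/-! The residue of a logarithmic connection is linear and descends to the restriction to the component. -/

set_option autoImplicit false
set_option maxHeartbeats 400000
set_option linter.style.haveILetI false
set_option backward.isDefEq.respectTransparency.types false

noncomputable section

universe u

open CategoryTheory CategoryTheory.Limits AlgebraicGeometry Opposite TopologicalSpace
open Groth.Agent.QC70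

namespace Groth.Agent.H98LogRes

variable {X : Scheme.{u}}

theorem tmul_zero_right {M N : X.Modules} (U : X.Opens) (m : Γ(M, U)) :
    (SecTwist.tmul M N U m (0 : Γ(N, U)) : Γ(CohB1.tensorMod M N, U)) = 0 := by
  have := Amp73.tm_smul_right (L := M) (M := N) (0 : Γ(X, U)) m 0
  rwa [zero_smul, zero_smul] at this

/-- A function in `I` kills `E ⊗ O_D`. -/
theorem smul_eq_zero_of_toSubscheme (I : X.IdealSheafData) {E : X.Modules} (hE : FlatMod.IsFinLocFree E)
    {U : X.Opens} (r : Γ(X, U))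
    (hr : (ClSub.toSubscheme I).app U (r : Γ(Coh.structureModule X, U)) = 0)
    (w : Γ(CohB1.tensorMod E (ClSub.quotMod I), U)) : r • w = 0 := by
  haveI := H98GP.epi_toRes I hE
  let q : E ⟶ CohB1.tensorMod E (ClSub.quotMod I) :=
    (SecTwist.unitorR E).inv ≫ KoszTw.tensorMap (𝟙 E) (ClSub.toSubscheme I)
  haveI : Epi q := epi_comp _ _
  have hq : ∀ (V : X.Opens) (e : Γ(E, V)) (a : Γ(X, V)),
      q.app V (a • e) = SecTwist.tmul E (ClSub.quotMod I) V e
        ((ClSub.toSubscheme I).app V (a : Γ(Coh.structureModule X, V))) := fun V e a => by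
    have h1 : (SecTwist.unitorR E).inv.app V (a • e) =
        SecTwist.tmul E (Coh.structureModule X) V e (a : Γ(Coh.structureModule X, V)) := by
      refine Eq.trans (congrArg ((SecTwist.unitorR E).inv.app V) (SecTwist.unitorR_tmul E V e a).symm) ?_
      exact congrArg (fun f => (f : CohB1.tensorMod E (Coh.structureModule X) ⟶ _).app V
        (SecTwist.tmul E (Coh.structureModule X) V e (a : Γ(Coh.structureModule X, V))))
        (SecTwist.unitorR E).hom_inv_id
    change (KoszTw.tensorMap (𝟙 E) (ClSub.toSubscheme I)).app V ((SecTwist.unitorR E).inv.app V (a • e)) = _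
    rw [h1, KoszTw.tensorMap_tmul]
    rfl
  refine section_ext _ (r • w) 0 fun x hx => ?_
  obtain ⟨v, hv⟩ := surjective_stalkMapM_of_epi q x (germM _ U x hx w)
  obtain ⟨W, hxW, e, rfl⟩ := germM_exist v
  let V : X.Opens := W ⊓ U
  have hxV : x ∈ V := ⟨hxW, hx⟩
  rw [← germM_res (inf_le_left : V ≤ W) hxV, stalkMapM_germ, ← germM_res (inf_le_right : V ≤ U) hxV w] at hv
  obtain ⟨Z, hxZ, i₁, i₂, hZ⟩ := TopCat.Presheaf.germ_eq
    (CohB1.tensorMod E (ClSub.quotMod I)).presheaf x hxV hxV _ _ hv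
  refine ⟨Z, i₁.le.trans inf_le_right, hxZ, ?_⟩
  have hZ' : res (CohB1.tensorMod E (ClSub.quotMod I)) i₁.le (q.app V (res E inf_le_left e)) =
      res _ i₂.le (res _ (inf_le_right : V ≤ U) w) := hZ
  rw [res_res, ← app_res] at hZ'
  rw [res_smul, res_zero, ← hZ', ← Scheme.Modules.Hom.app_smul q, hq]
  have h0 : (ClSub.toSubscheme I).app Z
      (resO X (i₁.le.trans inf_le_right : Z ≤ U) r : Γ(Coh.structureModule X, Z)) = 0 := by
    refine Eq.trans (app_res (ClSub.toSubscheme I) (i₁.le.trans inf_le_right : Z ≤ U)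
      (r : Γ(Coh.structureModule X, U))) ?_
    rw [hr, res_zero]
  rw [h0]
  exact tmul_zero_right _ _

theorem exists_residue {S : Scheme.{u}} {f : X ⟶ S} {Ω' : X.Modules} {d : OmegaSh.Der f Ω'} {r : ℕ}
    {D : Fin r → X.IdealSheafData} (Λ : LogNCD.LogMod d D) {E : X.Modules} (hE : FlatMod.IsFinLocFree E)
    (nabla : Coh.toAb E ⟶ Coh.toAb (CohB1.tensorMod E Λ.L)) (hc : ConnSh.IsConn (LogNCD.der Λ) E nabla)
    (i : Fin r) :
    ∃ ρ : E ⟶ CohB1.tensorMod E (ClSub.quotMod (D i)), LogNCD.IsResidue Λ E nabla i ρ ∧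
      ∃ R : CohB1.tensorMod E (ClSub.quotMod (D i)) ⟶ CohB1.tensorMod E (ClSub.quotMod (D i)),
        (SecTwist.unitorR E).inv ≫ KoszTw.tensorMap (𝟙 E) (ClSub.toSubscheme (D i)) ≫ R = ρ := by
  let T : CohB1.tensorMod E Λ.L ⟶ CohB1.tensorMod E (ClSub.quotMod (D i)) := KoszTw.tensorMap (𝟙 E) (Λ.res i)
  let g : Coh.toAb E ⟶ Coh.toAb (CohB1.tensorMod E (ClSub.quotMod (D i))) :=
    nabla ≫ (SheafOfModules.toSheaf X.ringCatSheaf).map T
  have hg : ∀ (U : X.Opens) (t : Γ(X, U)) (e : Γ(E, U)),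
      ConnSh.secApp g U (t • e) = t • ConnSh.secApp g U e := fun U t e => by
    change T.app U (ConnSh.secApp nabla U (t • e)) = t • T.app U (ConnSh.secApp nabla U e)
    refine (congrArg (T.app U) (hc U t e)).trans ?_
    refine (map_add (T.app U).hom _ _).trans ?_
    have h0 : T.app U (SecTwist.tmul E Λ.L U e ((LogNCD.der Λ).app U t)) = 0 := by
      rw [KoszTw.tensorMap_tmul]
      change SecTwist.tmul E _ U _ ((Λ.ι ≫ Λ.res i).app U (d.app U t)) = 0
      rw [Λ.res_ι]
      exact tmul_zero_right _ _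
    exact (congrArg₂ (· + ·) (Scheme.Modules.Hom.app_smul T t _) h0).trans (add_zero _)
  let ρ : E ⟶ CohB1.tensorMod E (ClSub.quotMod (D i)) :=
    ⟨PresheafOfModules.homMk g.hom fun U t m => hg U.unop t m⟩
  obtain ⟨S', hS', e₁, e₂, e₃⟩ := H98GP.exists_resSeq (D i) hE
  refine ⟨ρ, rfl, ?_⟩
  have hz : KoszTw.tensorMap (𝟙 E) (ClSub.idealModι (D i)) ≫ (SecTwist.unitorR E).hom ≫ ρ = 0 :=
    GRec72.hom_ext_tmul fun U m a => by
      have hr : (ClSub.toSubscheme (D i)).app U ((ClSub.idealModι (D i)).app U a) = 0 :=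
        congrArg (fun φ : ClSub.idealMod (D i) ⟶ ClSub.quotMod (D i) => φ.app U a)
          (show ClSub.idealModι (D i) ≫ ClSub.toSubscheme (D i) = 0 from kernel.condition _)
      change ρ.app U ((SecTwist.unitorR E).hom.app U
        ((KoszTw.tensorMap (𝟙 E) (ClSub.idealModι (D i))).app U (SecTwist.tmul E _ U m a))) = 0
      rw [KoszTw.tensorMap_tmul]
      refine (congrArg (ρ.app U) (SecTwist.unitorR_tmul E U m ((ClSub.idealModι (D i)).app U a))).trans ?_
      refine (Scheme.Modules.Hom.app_smul ρ _ _).trans ?_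
      exact smul_eq_zero_of_toSubscheme (D i) hE _ hr _
  have hS := KRR40.shortExact_tensor (H98GP.flat_stalk_of_lf hE) (Crv77.idealSeq_shortExact (D i))
  haveI := hS.epi_g
  have hz' : (DCoh.tensorBi.obj E).map (Crv77.idealSeq (D i)).f ≫ (SecTwist.unitorR E).hom ≫ ρ = 0 := by
    rw [KoszTw.tensorBi_obj_map]; exact hz
  refine ⟨hS.exact.desc ((SecTwist.unitorR E).hom ≫ ρ) hz', ?_⟩
  rw [Iso.inv_comp_eq, ← KoszTw.tensorBi_obj_map]
  exact hS.exact.g_desc _ _

end Groth.Agent.H98LogRes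

end
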